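import Cfsg.Agent.Lib.BaseTwo.Signed

/-!
Certificate data: the minus family over 3 elements, height 1. The tables were computed by a script and are
checked here by evaluation.
-/

set_option autoImplicit false
set_option maxRecDepth 100000
set_option maxHeartbeats 0

namespace CfsgLib.BaseTwo.Data

def q3mk1 : Spec :=
  { o := (opsMod 3), q := 3, cj := id, k := 1,
    mats := [[1, 0, 0, 1], [0, 2, 1, 0], [1, 1, 1, 2], [2, 1, 1, 1]],
    forms := [[0, 1, 2, 0], [1, 0, 0, 1], [1, 2, 2, 2], [1, 1, 1, 2]],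
    sc := [1, 2], tsc := [1],
    x := [0, 0, 2, 0],
    y := [2, 2, 0, 1],
    rx := [0, 0, 0, 2],
    ry := [1, 2, 2, 0] }

theorem q3mk1_part0 : Spec.tableB (q3mk1) 0 32
    [15, 1, 13, 52, 21, 39, 27, 24, 21, 29, 80, 14, 51, 15, 0, 21, 21, 2, 26, 68, 15, 78, 54, 12, 15, 55, 40, 25,
    66, 21, 0, 15] = true := by decide +kernel

theorem q3mk1_table : ∃ cols, Spec.Table (q3mk1) cols ∧ cols =
    [15, 1, 13, 52, 21, 39, 27, 24, 21, 29, 80, 14, 51, 15, 0, 21, 21, 2, 26, 68, 15, 78, 54, 12, 15, 55, 40, 25,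
    66, 21, 0, 15] :=
  ⟨_, Spec.table_eq _ q3mk1_part0 (by decide), rfl⟩

def q3mk1_cols : List ℕ :=
    [15, 1, 13, 52, 21, 39, 27, 24, 21, 29, 80, 14, 51, 15, 0, 21, 21, 2, 26, 68, 15, 78, 54, 12, 15, 55, 40, 25,
    66, 21, 0, 15]

theorem q3mk1_cols_table : Spec.Table q3mk1 q3mk1_cols := by
  obtain ⟨_, h, rfl⟩ := q3mk1_table
  exact h

theorem q3mk1_plain : Spec.Plain (q3mk1) (q3mk1_cols) :=
  ⟨[(1, 0), (12, 0)],
    [[0, 1, 1, 1], [0, 1, 1, 2], [2], [0, 0, 2]], by decide +kernel⟩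

theorem q3mk1_contra : Spec.contraB q3mk1 q3mk1_cols
    [(1, 0), (12, 0), (13, 0), (27, 0), (12, 2), (27, 2)]
    [2, 0, 2, 0, 1] = true := by decide +kernel

theorem q3mk1_good : Spec.Good q3mk1 :=
  Or.inr ⟨rfl, Or.inl ⟨by decide +kernel, _, q3mk1_cols_table, q3mk1_plain, _, _, q3mk1_contra⟩⟩


end CfsgLib.BaseTwo.Data
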