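import Cfsg.Agent.Lib.BaseTwo.Signed

/-!
Certificate data: the minus family over 3 elements, height 2. The tables were computed by a script and are
checked here by evaluation.
-/

set_option autoImplicit false
set_option maxRecDepth 100000
set_option maxHeartbeats 0

namespace CfsgLib.BaseTwo.Data

def q3mk2 : Spec :=
  { o := (opsMod 3), q := 3, cj := id, k := 2,
    mats := [[1, 0, 0, 1], [0, 2, 1, 0], [1, 1, 1, 2], [2, 1, 1, 1]],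
    forms := [[0, 1, 2, 0], [1, 0, 0, 1], [1, 2, 2, 2], [1, 1, 1, 2]],
    sc := [1, 2], tsc := [1],
    x := [0, 0, 1, 2, 2, 1, 2, 2],
    y := [2, 0, 2, 0, 0, 0, 1, 0],
    rx := [0, 0, 1, 1, 2, 2, 1, 2],
    ry := [0, 2, 0, 2, 0, 0, 0, 1] }

def q3mk2_second : Spec :=
  Spec.withPair q3mk2 [0, 1, 0, 0, 2, 2, 0, 2] [0, 0, 2, 0, 2, 0, 1, 0] [2, 0, 0, 0, 1, 2, 1, 0] [0, 0, 0, 2, 0, 2, 0, 1]

theorem q3mk2_part0 : Spec.tableB (q3mk2) 0 128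
    [0, 12, 14, 13, 21, 66, 79, 55, 21, 27, 41, 53, 0, 53, 53, 52, 0, 79, 80, 79, 1, 0, 0, 0, 21, 78, 55, 67, 24,
    0, 15, 21, 21, 28, 41, 52, 0, 54, 56, 56, 14, 15, 0, 21, 0, 21, 21, 21, 15, 28, 51, 39, 26, 15, 21, 0, 1,
    15, 15, 15, 21, 28, 40, 53, 0, 24, 25, 26, 15, 51, 41, 29, 15, 54, 79, 67, 0, 67, 67, 68, 0, 41, 40, 41, 2,
    0, 0, 0, 15, 39, 29, 53, 12, 0, 21, 15, 15, 56, 79, 68, 0, 27, 28, 28, 25, 21, 0, 15, 0, 15, 15, 15, 21,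
    56, 66, 78, 13, 21, 15, 0, 2, 21, 21, 21, 15, 56, 80, 67] = true := by decide +kernel

theorem q3mk2_table : ∃ cols, Spec.Table (q3mk2) cols ∧ cols =
    [0, 12, 14, 13, 21, 66, 79, 55, 21, 27, 41, 53, 0, 53, 53, 52, 0, 79, 80, 79, 1, 0, 0, 0, 21, 78, 55, 67, 24,
    0, 15, 21, 21, 28, 41, 52, 0, 54, 56, 56, 14, 15, 0, 21, 0, 21, 21, 21, 15, 28, 51, 39, 26, 15, 21, 0, 1,
    15, 15, 15, 21, 28, 40, 53, 0, 24, 25, 26, 15, 51, 41, 29, 15, 54, 79, 67, 0, 67, 67, 68, 0, 41, 40, 41, 2,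
    0, 0, 0, 15, 39, 29, 53, 12, 0, 21, 15, 15, 56, 79, 68, 0, 27, 28, 28, 25, 21, 0, 15, 0, 15, 15, 15, 21,
    56, 66, 78, 13, 21, 15, 0, 2, 21, 21, 21, 15, 56, 80, 67] :=
  ⟨_, Spec.table_eq _ q3mk2_part0 (by decide), rfl⟩

def q3mk2_cols : List ℕ :=
    [0, 12, 14, 13, 21, 66, 79, 55, 21, 27, 41, 53, 0, 53, 53, 52, 0, 79, 80, 79, 1, 0, 0, 0, 21, 78, 55, 67, 24,
    0, 15, 21, 21, 28, 41, 52, 0, 54, 56, 56, 14, 15, 0, 21, 0, 21, 21, 21, 15, 28, 51, 39, 26, 15, 21, 0, 1,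
    15, 15, 15, 21, 28, 40, 53, 0, 24, 25, 26, 15, 51, 41, 29, 15, 54, 79, 67, 0, 67, 67, 68, 0, 41, 40, 41, 2,
    0, 0, 0, 15, 39, 29, 53, 12, 0, 21, 15, 15, 56, 79, 68, 0, 27, 28, 28, 25, 21, 0, 15, 0, 15, 15, 15, 21,
    56, 66, 78, 13, 21, 15, 0, 2, 21, 21, 21, 15, 56, 80, 67]

theorem q3mk2_second_part0 : Spec.tableB (q3mk2_second) 0 128
    [0, 13, 14, 12, 21, 53, 29, 39, 0, 28, 28, 27, 21, 67, 80, 56, 21, 68, 79, 56, 2, 15, 15, 15, 15, 55, 79, 66,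
    12, 21, 15, 0, 0, 79, 80, 79, 21, 67, 79, 54, 26, 0, 15, 21, 0, 15, 15, 15, 15, 78, 66, 56, 25, 21, 0, 15,
    2, 0, 0, 0, 0, 52, 53, 53, 0, 26, 25, 24, 15, 67, 55, 78, 0, 56, 56, 54, 15, 53, 40, 28, 15, 52, 41, 28, 1,
    21, 21, 21, 21, 29, 41, 51, 24, 15, 21, 0, 0, 41, 40, 41, 15, 53, 41, 27, 13, 0, 21, 15, 0, 21, 21, 21, 21,
    39, 51, 28, 14, 15, 0, 21, 1, 0, 0, 0, 0, 68, 67, 67] = true := by decide +kernel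

theorem q3mk2_second_table : ∃ cols, Spec.Table (q3mk2_second) cols ∧ cols =
    [0, 13, 14, 12, 21, 53, 29, 39, 0, 28, 28, 27, 21, 67, 80, 56, 21, 68, 79, 56, 2, 15, 15, 15, 15, 55, 79, 66,
    12, 21, 15, 0, 0, 79, 80, 79, 21, 67, 79, 54, 26, 0, 15, 21, 0, 15, 15, 15, 15, 78, 66, 56, 25, 21, 0, 15,
    2, 0, 0, 0, 0, 52, 53, 53, 0, 26, 25, 24, 15, 67, 55, 78, 0, 56, 56, 54, 15, 53, 40, 28, 15, 52, 41, 28, 1,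
    21, 21, 21, 21, 29, 41, 51, 24, 15, 21, 0, 0, 41, 40, 41, 15, 53, 41, 27, 13, 0, 21, 15, 0, 21, 21, 21, 21,
    39, 51, 28, 14, 15, 0, 21, 1, 0, 0, 0, 0, 68, 67, 67] :=
  ⟨_, Spec.table_eq _ q3mk2_second_part0 (by decide), rfl⟩

def q3mk2_second_cols : List ℕ :=
    [0, 13, 14, 12, 21, 53, 29, 39, 0, 28, 28, 27, 21, 67, 80, 56, 21, 68, 79, 56, 2, 15, 15, 15, 15, 55, 79, 66,
    12, 21, 15, 0, 0, 79, 80, 79, 21, 67, 79, 54, 26, 0, 15, 21, 0, 15, 15, 15, 15, 78, 66, 56, 25, 21, 0, 15,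
    2, 0, 0, 0, 0, 52, 53, 53, 0, 26, 25, 24, 15, 67, 55, 78, 0, 56, 56, 54, 15, 53, 40, 28, 15, 52, 41, 28, 1,
    21, 21, 21, 21, 29, 41, 51, 24, 15, 21, 0, 0, 41, 40, 41, 15, 53, 41, 27, 13, 0, 21, 15, 0, 21, 21, 21, 21,
    39, 51, 28, 14, 15, 0, 21, 1, 0, 0, 0, 0, 68, 67, 67]

theorem q3mk2_cols_table : Spec.Table q3mk2 q3mk2_cols := by
  obtain ⟨_, h, rfl⟩ := q3mk2_table
  exact h

theorem q3mk2_second_cols_table : Spec.Table q3mk2_second q3mk2_second_cols := by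
  obtain ⟨_, h, rfl⟩ := q3mk2_second_table
  exact h

theorem q3mk2_plain : Spec.Plain (q3mk2) (q3mk2_cols) :=
  ⟨[(1, 0), (12, 0), (13, 0), (27, 0), (12, 2), (27, 2)],
    [[0, 2, 2, 2, 1, 1, 0, 2], [0, 2, 1, 2, 2, 1, 2, 1], [2, 1, 2, 0, 0, 2, 0, 1], [1, 0, 0, 2, 2, 1, 0, 1], [1, 0,
    2, 1, 2, 2, 0, 1], [2, 2, 1, 0, 0, 1, 2, 1], [2, 1, 1, 2, 1], [2, 2, 0, 1, 1, 0, 2]], by decide +kernel⟩

theorem q3mk2_second_plain : Spec.Plain (q3mk2_second) (q3mk2_second_cols) :=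
  ⟨[(1, 0), (12, 0), (13, 0), (27, 0), (12, 2), (27, 2)],
    [[2, 0, 2, 1, 2, 2, 0, 2], [1, 2, 1, 1, 2, 1, 2], [0, 2, 1, 1, 2, 2, 0, 2], [0, 0, 2, 0, 1, 0, 1, 1], [1, 2, 1,
    2, 1], [0, 1, 1, 1, 0, 0, 2], [1, 2, 2, 0, 0, 2, 0, 2], [2, 2, 2, 1, 1, 1]], by decide +kernel⟩

theorem q3mk2_signed : Spec.signedB (q3mk2) (q3mk2_cols)
    [(1, 0), (12, 0), (13, 0), (27, 0), (12, 2), (27, 2)]
    [[0, 2, 2, 2, 1, 1, 0, 2], [0, 2, 1, 2, 2, 1, 2, 1], [2, 1, 2, 0, 0, 2, 0, 1], [1, 0, 0, 2, 2, 1, 0, 1], [1, 0,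
    2, 1, 2, 2, 0, 1], [2, 2, 1, 0, 0, 1, 2, 1], [2, 1, 1, 2, 1], [2, 2, 0, 1, 1, 0, 2]]
    [[0, 1, 1, 2, 2, 2, 1, 0], [1, 0, 1, 1, 1, 2, 0, 2], [2, 2, 2, 0, 0, 2, 1, 2], [1, 2, 0, 1, 2, 0, 1, 1], [1, 2,
    0, 2, 1, 0, 1, 1], [1, 1, 2, 0, 0, 2, 2, 1], [1, 0, 2, 2, 2, 1, 0, 2], [0, 2, 1, 2, 2, 2, 2, 0]] = true := by decide +kernel

theorem q3mk2_second_signed : Spec.signedB (q3mk2_second) (q3mk2_second_cols)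
    [(1, 0), (12, 0), (13, 0), (27, 0), (12, 2), (27, 2)]
    [[2, 0, 2, 1, 2, 2, 0, 2], [1, 2, 1, 1, 2, 1, 2], [0, 2, 1, 1, 2, 2, 0, 2], [0, 0, 2, 0, 1, 0, 1, 1], [1, 2, 1,
    2, 1], [0, 1, 1, 1, 0, 0, 2], [1, 2, 2, 0, 0, 2, 0, 2], [2, 2, 2, 1, 1, 1]]
    [[1, 0, 0, 2, 2, 2, 2, 1], [2, 2, 2, 1, 2, 0, 0, 1], [2, 2, 1, 2, 2, 0, 0, 2], [2, 0, 0, 2, 1, 1, 2, 1], [0, 2,
    2, 0, 2, 1, 1, 1], [2, 1, 1, 1, 0, 1, 1, 0], [2, 1, 2, 2, 0, 1, 2, 0], [0, 1, 2, 0, 1, 2, 1, 1]] = true := by decide +kernel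

theorem q3mk2_order : Spec.orderB q3mk2
    [[0, 1, 1, 2, 2, 2, 1, 0], [1, 0, 1, 1, 1, 2, 0, 2], [2, 2, 2, 0, 0, 2, 1, 2], [1, 2, 0, 1, 2, 0, 1, 1], [1, 2,
    0, 2, 1, 0, 1, 1], [1, 1, 2, 0, 0, 2, 2, 1], [1, 0, 2, 2, 2, 1, 0, 2], [0, 2, 1, 2, 2, 2, 2, 0]]
    [[1, 0, 0, 2, 2, 2, 2, 1], [2, 2, 2, 1, 2, 0, 0, 1], [2, 2, 1, 2, 2, 0, 0, 2], [2, 0, 0, 2, 1, 1, 2, 1], [0, 2,
    2, 0, 2, 1, 1, 1], [2, 1, 1, 1, 0, 1, 1, 0], [2, 1, 2, 2, 0, 1, 2, 0], [0, 1, 2, 0, 1, 2, 1, 1]] = true := by decide +kernel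

theorem q3mk2_good : Spec.Good q3mk2 :=
  Or.inr ⟨rfl, Or.inr (Or.inr ⟨_, _, _, _, by decide +kernel, by decide +kernel, _, _, q3mk2_cols_table, q3mk2_second_cols_table,
    q3mk2_plain, q3mk2_second_plain, _, _, _, _, _, _, q3mk2_signed, q3mk2_second_signed, q3mk2_order⟩)⟩


end CfsgLib.BaseTwo.Data
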