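import Cfsg.Agent.Lib.BaseTwo.Signed

/-!
Certificate data: the plus family over 3 elements, height 1. The tables were computed by a script and are
checked here by evaluation.
-/

set_option autoImplicit false
set_option maxRecDepth 100000
set_option maxHeartbeats 0

namespace CfsgLib.BaseTwo.Data

def q3pk1 : Spec :=
  { o := (opsMod 3), q := 3, cj := id, k := 1,
    mats := [[1, 0, 0, 1], [0, 1, 1, 0], [1, 0, 0, 2], [0, 2, 1, 0]],
    forms := [[1, 0, 0, 1], [0, 1, 1, 0], [1, 0, 0, 2], [0, 2, 1, 0]],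
    sc := [1, 2], tsc := [1],
    x := [2, 0, 2, 2],
    y := [0, 2, 1, 2],
    rx := [2, 0, 2, 2],
    ry := [0, 2, 1, 2] }

theorem q3pk1_part0 : Spec.tableB (q3pk1) 0 32
    [0, 41, 67, 0, 56, 53, 41, 21, 56, 67, 79, 21, 21, 0, 0, 28, 0, 79, 53, 0, 28, 67, 79, 15, 28, 53, 41, 15, 15,
    0, 0, 56] = true := by decide +kernel

theorem q3pk1_table : ∃ cols, Spec.Table (q3pk1) cols ∧ cols =
    [0, 41, 67, 0, 56, 53, 41, 21, 56, 67, 79, 21, 21, 0, 0, 28, 0, 79, 53, 0, 28, 67, 79, 15, 28, 53, 41, 15, 15,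
    0, 0, 56] :=
  ⟨_, Spec.table_eq _ q3pk1_part0 (by decide), rfl⟩

def q3pk1_cols : List ℕ :=
    [0, 41, 67, 0, 56, 53, 41, 21, 56, 67, 79, 21, 21, 0, 0, 28, 0, 79, 53, 0, 28, 67, 79, 15, 28, 53, 41, 15, 15,
    0, 0, 56]

theorem q3pk1_cols_table : Spec.Table q3pk1 q3pk1_cols := by
  obtain ⟨_, h, rfl⟩ := q3pk1_table
  exact h

theorem q3pk1_plain0 : Spec.Plain (q3pk1) (q3pk1_cols.set 23 81) :=
  ⟨[(81, 0), (81, 1)],
    [[1, 2, 0, 1], [1, 1, 2], [1, 0, 1, 1], [0, 1, 2, 1]], by decide +kernel⟩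

theorem q3pk1_signed0 : Spec.signedB (q3pk1) (q3pk1_cols.set 23 81)
    [(81, 0), (81, 1)]
    [[1, 2, 0, 1], [1, 1, 2], [1, 0, 1, 1], [0, 1, 2, 1]]
    [[0, 2, 2, 0], [1, 0, 0, 2], [1, 0, 0, 1], [0, 1, 2, 0]] = true := by decide +kernel

theorem q3pk1_trans0 : Spec.transB q3pk1
    [[0, 2, 2, 0], [1, 0, 0, 2], [1, 0, 0, 1], [0, 1, 2, 0]] 7
    [(0, false), (17, true), (18, true), (3, false), (20, false), (5, true), (6, true), (23, false), (8, true),
    (25, false), (26, false), (11, true), (28, true), (13, false), (14, false), (31, true)] = true := by decide +kernel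

theorem q3pk1_plain1 : Spec.Plain (q3pk1) (q3pk1_cols.set 27 81) :=
  ⟨[(81, 0), (81, 1)],
    [[1, 0, 0, 1], [0, 1, 2], [2, 1, 1, 1], [2, 2, 2, 1]], by decide +kernel⟩

theorem q3pk1_signed1 : Spec.signedB (q3pk1) (q3pk1_cols.set 27 81)
    [(81, 0), (81, 1)]
    [[1, 0, 0, 1], [0, 1, 2], [2, 1, 1, 1], [2, 2, 2, 1]]
    [[0, 0, 1, 1], [0, 0, 2, 1], [2, 1, 0, 0], [2, 2, 0, 0]] = true := by decide +kernel

theorem q3pk1_trans1 : Spec.transB q3pk1
    [[0, 0, 1, 1], [0, 0, 2, 1], [2, 1, 0, 0], [2, 2, 0, 0]] 11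
    [(0, false), (1, true), (2, true), (3, false), (20, true), (21, false), (22, false), (23, true), (24, false),
    (25, true), (26, true), (27, false), (12, true), (13, false), (14, false), (15, true)] = true := by decide +kernel

theorem q3pk1_plain2 : Spec.Plain (q3pk1) (q3pk1_cols.set 28 81) :=
  ⟨[(81, 0), (81, 1)],
    [[1, 1, 0, 1], [2, 1, 2], [0, 2, 1, 1], [1, 0, 2, 1]], by decide +kernel⟩

theorem q3pk1_signed2 : Spec.signedB (q3pk1) (q3pk1_cols.set 28 81)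
    [(81, 0), (81, 1)]
    [[1, 1, 0, 1], [2, 1, 2], [0, 2, 1, 1], [1, 0, 2, 1]]
    [[0, 1, 0, 2], [2, 0, 1, 0], [0, 2, 0, 2], [1, 0, 1, 0]] = true := by decide +kernel

theorem q3pk1_trans2 : Spec.transB q3pk1
    [[0, 1, 0, 2], [2, 0, 1, 0], [0, 2, 0, 2], [1, 0, 1, 0]] 12
    [(0, false), (17, false), (18, false), (3, false), (4, true), (21, true), (22, true), (7, true), (24, true),
    (9, true), (10, true), (27, true), (28, false), (13, false), (14, false), (31, false)] = true := by decide +kernel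

theorem q3pk1_good : Spec.Good q3pk1 := by
  refine Or.inr ⟨rfl, Or.inr (Or.inl ⟨by decide +kernel, _, q3pk1_cols_table, 15, by decide +kernel, fun f hf => ?_⟩)⟩
  rw [show (Spec.cert q3pk1).cls q3pk1_cols 15 = [23, 27, 28] by decide +kernel] at hf
  simp only [List.mem_cons, List.not_mem_nil, or_false] at hf
  rcases hf with rfl | rfl | rfl
  · exact ⟨q3pk1_plain0, _, _, _, _, _, q3pk1_signed0, q3pk1_trans0⟩
  · exact ⟨q3pk1_plain1, _, _, _, _, _, q3pk1_signed1, q3pk1_trans1⟩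
  · exact ⟨q3pk1_plain2, _, _, _, _, _, q3pk1_signed2, q3pk1_trans2⟩

end CfsgLib.BaseTwo.Data
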