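import Cfsg.Agent.Lib.BaseTwo.Signed

/-!
Certificate data: the plus family over 3 elements, height 2. The tables were computed by a script and are
checked here by evaluation.
-/

set_option autoImplicit false
set_option maxRecDepth 100000
set_option maxHeartbeats 0

namespace CfsgLib.BaseTwo.Data

def q3pk2 : Spec :=
  { o := (opsMod 3), q := 3, cj := id, k := 2,
    mats := [[1, 0, 0, 1], [0, 1, 1, 0], [1, 0, 0, 2], [0, 2, 1, 0]],
    forms := [[1, 0, 0, 1], [0, 1, 1, 0], [1, 0, 0, 2], [0, 2, 1, 0]],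
    sc := [1, 2], tsc := [1],
    x := [0, 0, 1, 2, 0, 0, 2, 0],
    y := [0, 1, 1, 0, 1, 1, 1, 2],
    rx := [0, 0, 1, 2, 0, 0, 2, 0],
    ry := [0, 1, 1, 0, 1, 1, 1, 2] }

theorem q3pk2_part0 : Spec.tableB (q3pk2) 0 128
    [0, 1, 1, 21, 12, 54, 27, 0, 40, 14, 25, 0, 0, 51, 51, 15, 0, 29, 29, 15, 15, 0, 0, 0, 26, 52, 68, 0, 0, 21,
    21, 39, 52, 13, 26, 0, 0, 78, 78, 21, 0, 21, 21, 29, 0, 21, 15, 0, 14, 80, 40, 0, 0, 21, 21, 51, 0, 15, 15,
    1, 54, 24, 12, 0, 0, 2, 2, 15, 24, 27, 54, 0, 80, 25, 14, 0, 0, 66, 66, 21, 0, 55, 55, 21, 21, 0, 0, 0, 13,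
    68, 52, 0, 0, 15, 15, 78, 68, 26, 13, 0, 0, 39, 39, 15, 0, 15, 15, 55, 0, 15, 21, 0, 25, 40, 80, 0, 0, 15,
    15, 66, 0, 21, 21, 2, 27, 12, 24, 0] = true := by decide +kernel

theorem q3pk2_table : ∃ cols, Spec.Table (q3pk2) cols ∧ cols =
    [0, 1, 1, 21, 12, 54, 27, 0, 40, 14, 25, 0, 0, 51, 51, 15, 0, 29, 29, 15, 15, 0, 0, 0, 26, 52, 68, 0, 0, 21,
    21, 39, 52, 13, 26, 0, 0, 78, 78, 21, 0, 21, 21, 29, 0, 21, 15, 0, 14, 80, 40, 0, 0, 21, 21, 51, 0, 15, 15,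
    1, 54, 24, 12, 0, 0, 2, 2, 15, 24, 27, 54, 0, 80, 25, 14, 0, 0, 66, 66, 21, 0, 55, 55, 21, 21, 0, 0, 0, 13,
    68, 52, 0, 0, 15, 15, 78, 68, 26, 13, 0, 0, 39, 39, 15, 0, 15, 15, 55, 0, 15, 21, 0, 25, 40, 80, 0, 0, 15,
    15, 66, 0, 21, 21, 2, 27, 12, 24, 0] :=
  ⟨_, Spec.table_eq _ q3pk2_part0 (by decide), rfl⟩

def q3pk2_cols : List ℕ :=
    [0, 1, 1, 21, 12, 54, 27, 0, 40, 14, 25, 0, 0, 51, 51, 15, 0, 29, 29, 15, 15, 0, 0, 0, 26, 52, 68, 0, 0, 21,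
    21, 39, 52, 13, 26, 0, 0, 78, 78, 21, 0, 21, 21, 29, 0, 21, 15, 0, 14, 80, 40, 0, 0, 21, 21, 51, 0, 15, 15,
    1, 54, 24, 12, 0, 0, 2, 2, 15, 24, 27, 54, 0, 80, 25, 14, 0, 0, 66, 66, 21, 0, 55, 55, 21, 21, 0, 0, 0, 13,
    68, 52, 0, 0, 15, 15, 78, 68, 26, 13, 0, 0, 39, 39, 15, 0, 15, 15, 55, 0, 15, 21, 0, 25, 40, 80, 0, 0, 15,
    15, 66, 0, 21, 21, 2, 27, 12, 24, 0]

theorem q3pk2_cols_table : Spec.Table q3pk2 q3pk2_cols := by
  obtain ⟨_, h, rfl⟩ := q3pk2_table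
  exact h

theorem q3pk2_plain0 : Spec.Plain (q3pk2) (q3pk2_cols.set 1 81) :=
  ⟨[(81, 0), (81, 1), (12, 2), (27, 2), (81, 4), (81, 5)],
    [[0, 0, 0, 0, 1, 2, 0, 2], [0, 0, 0, 0, 0, 2, 1, 2], [2, 0, 1, 1, 0, 0, 1], [1, 1, 2, 0, 1], [0, 0, 0, 0, 1, 1,
    1], [0, 0, 0, 0, 1, 0, 1, 1], [0, 2, 2, 1, 2, 0, 1], [2, 1, 0, 2, 1, 0, 2]], by decide +kernel⟩

theorem q3pk2_signed0 : Spec.signedB (q3pk2) (q3pk2_cols.set 1 81)
    [(81, 0), (81, 1), (12, 2), (27, 2), (81, 4), (81, 5)]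
    [[0, 0, 0, 0, 1, 2, 0, 2], [0, 0, 0, 0, 0, 2, 1, 2], [2, 0, 1, 1, 0, 0, 1], [1, 1, 2, 0, 1], [0, 0, 0, 0, 1, 1,
    1], [0, 0, 0, 0, 1, 0, 1, 1], [0, 2, 2, 1, 2, 0, 1], [2, 1, 0, 2, 1, 0, 2]]
    [[0, 2, 0, 0, 1, 0, 0, 0], [1, 0, 0, 0, 0, 2, 0, 0], [0, 0, 0, 2, 0, 0, 2, 0], [0, 0, 1, 0, 0, 0, 0, 1], [2, 0,
    0, 0, 0, 2, 0, 0], [0, 1, 0, 0, 1, 0, 0, 0], [0, 0, 1, 0, 0, 0, 0, 2], [0, 0, 0, 2, 0, 0, 1, 0]] = true := by decide +kernel

theorem q3pk2_trans0 : Spec.transB q3pk2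
    [[0, 2, 0, 0, 1, 0, 0, 0], [1, 0, 0, 0, 0, 2, 0, 0], [0, 0, 0, 2, 0, 0, 2, 0], [0, 0, 1, 0, 0, 0, 0, 1], [2, 0,
    0, 0, 0, 2, 0, 0], [0, 1, 0, 0, 1, 0, 0, 0], [0, 0, 1, 0, 0, 0, 0, 2], [0, 0, 0, 2, 0, 0, 1, 0]] 57
    [(0, false), (65, false), (2, true), (67, true), (68, true), (5, true), (70, false), (7, false), (72, true),
    (9, true), (74, false), (11, false), (12, false), (77, false), (14, true), (79, true), (16, false), (81,
    false), (18, true), (83, true), (84, true), (21, true), (86, false), (23, false), (88, true), (25, true),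
    (90, false), (27, false), (28, false), (93, false), (30, true), (95, true), (96, true), (33, true), (98,
    false), (35, false), (36, false), (101, false), (38, true), (103, true), (40, false), (105, false), (42,
    true), (107, true), (108, true), (45, true), (110, false), (47, false), (112, true), (49, true), (114,
    false), (51, false), (52, false), (117, false), (54, true), (119, true), (56, false), (121, false), (58,
    true), (123, true), (124, true), (61, true), (126, false), (63, false)] = true := by decide +kernel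

theorem q3pk2_plain1 : Spec.Plain (q3pk2) (q3pk2_cols.set 2 81) :=
  ⟨[(81, 0), (81, 1), (12, 2), (27, 2), (81, 4), (81, 5)],
    [[0, 0, 0, 0, 0, 2, 0, 2], [0, 0, 0, 0, 2, 1, 1, 2], [1, 1, 1, 1, 1, 0, 1], [1, 0, 2], [0, 0, 0, 0, 1, 0, 1],
    [0, 0, 0, 0, 2, 2, 1, 1], [2, 1, 2, 1, 1, 0, 1], [0, 1, 0, 2, 1, 0, 2]], by decide +kernel⟩

theorem q3pk2_signed1 : Spec.signedB (q3pk2) (q3pk2_cols.set 2 81)
    [(81, 0), (81, 1), (12, 2), (27, 2), (81, 4), (81, 5)]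
    [[0, 0, 0, 0, 0, 2, 0, 2], [0, 0, 0, 0, 2, 1, 1, 2], [1, 1, 1, 1, 1, 0, 1], [1, 0, 2], [0, 0, 0, 0, 1, 0, 1],
    [0, 0, 0, 0, 2, 2, 1, 1], [2, 1, 2, 1, 1, 0, 1], [0, 1, 0, 2, 1, 0, 2]]
    [[0, 1, 0, 0, 0, 2, 0, 0], [2, 0, 0, 0, 2, 0, 0, 0], [0, 0, 0, 1, 0, 0, 0, 1], [0, 0, 2, 0, 0, 0, 1, 0], [0, 1,
    0, 0, 0, 1, 0, 0], [1, 0, 0, 0, 2, 0, 0, 0], [0, 0, 0, 2, 0, 0, 0, 1], [0, 0, 2, 0, 0, 0, 2, 0]] = true := by decide +kernel

theorem q3pk2_trans1 : Spec.transB q3pk2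
    [[0, 1, 0, 0, 0, 2, 0, 0], [2, 0, 0, 0, 2, 0, 0, 0], [0, 0, 0, 1, 0, 0, 0, 1], [0, 0, 2, 0, 0, 0, 1, 0], [0, 1,
    0, 0, 0, 1, 0, 0], [1, 0, 0, 0, 2, 0, 0, 0], [0, 0, 0, 2, 0, 0, 0, 1], [0, 0, 2, 0, 0, 0, 2, 0]] 58
    [(0, false), (65, true), (66, false), (3, true), (4, true), (69, false), (70, true), (7, false), (8, true),
    (73, false), (74, true), (11, false), (12, false), (77, true), (78, false), (15, true), (16, false), (81,
    true), (82, false), (19, true), (20, true), (85, false), (86, true), (23, false), (24, true), (89, false),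
    (90, true), (27, false), (28, false), (93, true), (94, false), (31, true), (32, true), (97, false), (98,
    true), (35, false), (36, false), (101, true), (102, false), (39, true), (40, false), (105, true), (106,
    false), (43, true), (44, true), (109, false), (110, true), (47, false), (48, true), (113, false), (114,
    true), (51, false), (52, false), (117, true), (118, false), (55, true), (56, false), (121, true), (122,
    false), (59, true), (60, true), (125, false), (126, true), (63, false)] = true := by decide +kernel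

theorem q3pk2_plain2 : Spec.Plain (q3pk2) (q3pk2_cols.set 59 81) :=
  ⟨[(81, 0), (81, 1), (12, 2), (27, 2), (81, 4), (81, 5)],
    [[0, 0, 0, 0, 2, 2, 0, 2], [0, 0, 0, 0, 1, 0, 1, 2], [0, 2, 1, 1, 2, 0, 1], [1, 2, 2, 0, 2], [0, 0, 0, 0, 1, 2,
    1], [0, 0, 0, 0, 0, 1, 1, 1], [1, 0, 2, 1, 0, 0, 1], [1, 1, 0, 2, 1, 0, 2]], by decide +kernel⟩

theorem q3pk2_signed2 : Spec.signedB (q3pk2) (q3pk2_cols.set 59 81)
    [(81, 0), (81, 1), (12, 2), (27, 2), (81, 4), (81, 5)]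
    [[0, 0, 0, 0, 2, 2, 0, 2], [0, 0, 0, 0, 1, 0, 1, 2], [0, 2, 1, 1, 2, 0, 1], [1, 2, 2, 0, 2], [0, 0, 0, 0, 1, 2,
    1], [0, 0, 0, 0, 0, 1, 1, 1], [1, 0, 2, 1, 0, 0, 1], [1, 1, 0, 2, 1, 0, 2]]
    [[0, 0, 0, 0, 2, 1, 0, 0], [0, 0, 0, 0, 1, 1, 0, 0], [0, 0, 0, 0, 0, 0, 1, 2], [0, 0, 0, 0, 0, 0, 2, 2], [1, 2,
    0, 0, 0, 0, 0, 0], [2, 2, 0, 0, 0, 0, 0, 0], [0, 0, 2, 1, 0, 0, 0, 0], [0, 0, 1, 1, 0, 0, 0, 0]] = true := by decide +kernel

theorem q3pk2_trans2 : Spec.transB q3pk2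
    [[0, 0, 0, 0, 2, 1, 0, 0], [0, 0, 0, 0, 1, 1, 0, 0], [0, 0, 0, 0, 0, 0, 1, 2], [0, 0, 0, 0, 0, 0, 2, 2], [1, 2,
    0, 0, 0, 0, 0, 0], [2, 2, 0, 0, 0, 0, 0, 0], [0, 0, 2, 1, 0, 0, 0, 0], [0, 0, 1, 1, 0, 0, 0, 0]] 3
    [(0, false), (65, true), (2, true), (67, false), (68, false), (5, true), (70, true), (7, false), (72, false),
    (9, true), (74, true), (11, false), (12, false), (77, true), (14, true), (79, false), (16, false), (81,
    true), (18, true), (83, false), (84, false), (21, true), (86, true), (23, false), (88, false), (25, true),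
    (90, true), (27, false), (28, false), (93, true), (30, true), (95, false), (96, false), (33, true), (98,
    true), (35, false), (36, false), (101, true), (38, true), (103, false), (40, false), (105, true), (42,
    true), (107, false), (108, false), (45, true), (110, true), (47, false), (112, false), (49, true), (114,
    true), (51, false), (52, false), (117, true), (54, true), (119, false), (56, false), (121, true), (58,
    true), (123, false), (124, false), (61, true), (126, true), (63, false)] = true := by decide +kernel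

theorem q3pk2_good : Spec.Good q3pk2 := by
  refine Or.inr ⟨rfl, Or.inr (Or.inl ⟨by decide +kernel, _, q3pk2_cols_table, 1, by decide +kernel, fun f hf => ?_⟩)⟩
  rw [show (Spec.cert q3pk2).cls q3pk2_cols 1 = [1, 2, 59] by decide +kernel] at hf
  simp only [List.mem_cons, List.not_mem_nil, or_false] at hf
  rcases hf with rfl | rfl | rfl
  · exact ⟨q3pk2_plain0, _, _, _, _, _, q3pk2_signed0, q3pk2_trans0⟩
  · exact ⟨q3pk2_plain1, _, _, _, _, _, q3pk2_signed1, q3pk2_trans1⟩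
  · exact ⟨q3pk2_plain2, _, _, _, _, _, q3pk2_signed2, q3pk2_trans2⟩

end CfsgLib.BaseTwo.Data
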