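import Cfsg.Agent.Lib.BaseTwo.Signed

/-!
Certificate data: the complex family over 5 elements, height 1. The tables were computed by a script and are
checked here by evaluation.
-/

set_option autoImplicit false
set_option maxRecDepth 100000
set_option maxHeartbeats 0

namespace CfsgLib.BaseTwo.Data

def q5ck1 : Spec :=
  { o := (opsMod 5), q := 5, cj := id, k := 1,
    mats := [[1, 0, 0, 1], [0, 1, 1, 0], [1, 0, 0, 4], [0, 4, 1, 0]],
    forms := [[1, 0, 0, 1], [0, 1, 1, 0], [1, 0, 0, 4], [0, 4, 1, 0]],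
    sc := [1, 2, 4, 3], tsc := [1],
    x := [4, 1, 0, 1],
    y := [0, 1, 2, 2],
    rx := [0, 0, 0, 0],
    ry := [2, 0, 3, 2] }

theorem q5ck1_part0 : Spec.tableB (q5ck1) 0 64
    [0, 250, 275, 125, 225, 325, 250, 450, 25, 350, 375, 25, 275, 150, 125, 575, 0, 500, 550, 250, 325, 525, 500,
    150, 50, 575, 125, 50, 550, 300, 250, 400, 0, 375, 475, 500, 525, 425, 375, 300, 100, 400, 250, 100, 475,
    600, 500, 175, 0, 125, 200, 375, 425, 225, 125, 600, 75, 175, 500, 75, 200, 450, 375, 350] = true := by decide +kernel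

theorem q5ck1_table : ∃ cols, Spec.Table (q5ck1) cols ∧ cols =
    [0, 250, 275, 125, 225, 325, 250, 450, 25, 350, 375, 25, 275, 150, 125, 575, 0, 500, 550, 250, 325, 525, 500,
    150, 50, 575, 125, 50, 550, 300, 250, 400, 0, 375, 475, 500, 525, 425, 375, 300, 100, 400, 250, 100, 475,
    600, 500, 175, 0, 125, 200, 375, 425, 225, 125, 600, 75, 175, 500, 75, 200, 450, 375, 350] :=
  ⟨_, Spec.table_eq _ q5ck1_part0 (by decide), rfl⟩

def q5ck1_cols : List ℕ :=
    [0, 250, 275, 125, 225, 325, 250, 450, 25, 350, 375, 25, 275, 150, 125, 575, 0, 500, 550, 250, 325, 525, 500,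
    150, 50, 575, 125, 50, 550, 300, 250, 400, 0, 375, 475, 500, 525, 425, 375, 300, 100, 400, 250, 100, 475,
    600, 500, 175, 0, 125, 200, 375, 425, 225, 125, 600, 75, 175, 500, 75, 200, 450, 375, 350]

theorem q5ck1_cols_table : Spec.Table q5ck1 q5ck1_cols := by
  obtain ⟨_, h, rfl⟩ := q5ck1_table
  exact h

theorem q5ck1_plain : Spec.Plain (q5ck1) (q5ck1_cols) :=
  ⟨[(25, 0), (150, 0)],
    [[4, 1, 4, 2], [2, 4, 3, 2], [1, 4, 0, 4], [3, 2, 1]], by decide +kernel⟩

theorem q5ck1_good : Spec.Good q5ck1 :=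
  Or.inl ⟨by decide +kernel, _, q5ck1_cols_table, q5ck1_plain⟩


end CfsgLib.BaseTwo.Data
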