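import Cfsg.Agent.Lib.BaseTwo.Signed

/-!
Certificate data: the minus family over 5 elements, height 2. The tables were computed by a script and are
checked here by evaluation.
-/

set_option autoImplicit false
set_option maxRecDepth 100000
set_option maxHeartbeats 0

namespace CfsgLib.BaseTwo.Data

def q5mk2 : Spec :=
  { o := (opsMod 5), q := 5, cj := id, k := 2,
    mats := [[1, 0, 0, 1], [2, 0, 0, 3], [0, 4, 1, 0], [0, 3, 3, 0]],
    forms := [[0, 1, 4, 0], [0, 3, 3, 0], [1, 0, 0, 1], [3, 0, 0, 2]],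
    sc := [1, 4], tsc := [1],
    x := [1, 0, 3, 0, 0, 1, 2, 2],
    y := [3, 0, 0, 3, 1, 1, 1, 0],
    rx := [3, 0, 1, 0, 0, 3, 1, 4],
    ry := [0, 0, 1, 2, 1, 2, 0, 4] }

theorem q5mk2_part0 : Spec.tableB (q5mk2) 0 128
    [594, 174, 346, 0, 415, 0, 360, 231, 180, 595, 415, 500, 507, 184, 106, 595, 283, 26, 14, 415, 535, 552, 257,
    180, 0, 415, 595, 311, 415, 0, 595, 580, 453, 35, 354, 415, 415, 360, 0, 94, 139, 113, 205, 415, 360, 0,
    360, 587, 212, 559, 221, 595, 61, 615, 158, 415, 471, 427, 328, 180, 132, 594, 615, 415, 186, 606, 434, 0,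
    360, 0, 415, 549, 595, 180, 360, 125, 148, 596, 49, 180, 497, 104, 16, 360, 240, 203, 398, 595, 0, 360,
    180, 469, 360, 0, 180, 195, 302, 115, 401, 360, 360, 415, 0, 61, 516, 42, 570, 360, 415, 0, 415, 193, 568,
    221, 559, 180, 94, 160, 622, 360, 309, 328, 427, 595, 523, 186, 160, 360] = true := by decide +kernel

theorem q5mk2_table : ∃ cols, Spec.Table (q5mk2) cols ∧ cols =
    [594, 174, 346, 0, 415, 0, 360, 231, 180, 595, 415, 500, 507, 184, 106, 595, 283, 26, 14, 415, 535, 552, 257,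
    180, 0, 415, 595, 311, 415, 0, 595, 580, 453, 35, 354, 415, 415, 360, 0, 94, 139, 113, 205, 415, 360, 0,
    360, 587, 212, 559, 221, 595, 61, 615, 158, 415, 471, 427, 328, 180, 132, 594, 615, 415, 186, 606, 434, 0,
    360, 0, 415, 549, 595, 180, 360, 125, 148, 596, 49, 180, 497, 104, 16, 360, 240, 203, 398, 595, 0, 360,
    180, 469, 360, 0, 180, 195, 302, 115, 401, 360, 360, 415, 0, 61, 516, 42, 570, 360, 415, 0, 415, 193, 568,
    221, 559, 180, 94, 160, 622, 360, 309, 328, 427, 595, 523, 186, 160, 360] :=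
  ⟨_, Spec.table_eq _ q5mk2_part0 (by decide), rfl⟩

def q5mk2_cols : List ℕ :=
    [594, 174, 346, 0, 415, 0, 360, 231, 180, 595, 415, 500, 507, 184, 106, 595, 283, 26, 14, 415, 535, 552, 257,
    180, 0, 415, 595, 311, 415, 0, 595, 580, 453, 35, 354, 415, 415, 360, 0, 94, 139, 113, 205, 415, 360, 0,
    360, 587, 212, 559, 221, 595, 61, 615, 158, 415, 471, 427, 328, 180, 132, 594, 615, 415, 186, 606, 434, 0,
    360, 0, 415, 549, 595, 180, 360, 125, 148, 596, 49, 180, 497, 104, 16, 360, 240, 203, 398, 595, 0, 360,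
    180, 469, 360, 0, 180, 195, 302, 115, 401, 360, 360, 415, 0, 61, 516, 42, 570, 360, 415, 0, 415, 193, 568,
    221, 559, 180, 94, 160, 622, 360, 309, 328, 427, 595, 523, 186, 160, 360]

theorem q5mk2_cols_table : Spec.Table q5mk2 q5mk2_cols := by
  obtain ⟨_, h, rfl⟩ := q5mk2_table
  exact h

theorem q5mk2_plain : Spec.Plain (q5mk2) (q5mk2_cols) :=
  ⟨[(14, 0), (26, 0), (35, 0), (42, 0), (49, 0), (125, 0)],
    [[3, 0, 3, 4, 0, 4, 3, 2], [3, 0, 0, 0, 4, 0, 2], [3, 3, 2, 1, 4, 2, 3, 1], [0, 4, 3, 3, 0, 2, 1], [1, 3, 3, 1,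
    0, 3, 2, 2], [1, 1, 4, 3, 2, 4, 1, 2], [4, 0, 0, 0, 3], [0, 0, 1, 0, 0, 3, 1, 4]], by decide +kernel⟩

theorem q5mk2_good : Spec.Good q5mk2 :=
  Or.inl ⟨by decide +kernel, _, q5mk2_cols_table, q5mk2_plain⟩


end CfsgLib.BaseTwo.Data
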