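import Cfsg.Agent.Lib.BaseTwo.Signed

/-!
Certificate data: the plus family over 5 elements, height 1. The tables were computed by a script and are
checked here by evaluation.
-/

set_option autoImplicit false
set_option maxRecDepth 100000
set_option maxHeartbeats 0

namespace CfsgLib.BaseTwo.Data

def q5pk1 : Spec :=
  { o := (opsMod 5), q := 5, cj := id, k := 1,
    mats := [[1, 0, 0, 1], [0, 1, 1, 0], [1, 0, 0, 4], [0, 4, 1, 0]],
    forms := [[1, 0, 0, 1], [0, 1, 1, 0], [1, 0, 0, 4], [0, 4, 1, 0]],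
    sc := [1, 4], tsc := [1],
    x := [4, 4, 1, 3],
    y := [3, 0, 4, 0],
    rx := [0, 0, 0, 0],
    ry := [1, 2, 0, 1] }

theorem q5pk1_part0 : Spec.tableB (q5pk1) 0 32
    [375, 75, 450, 0, 525, 225, 525, 200, 475, 275, 475, 325, 575, 25, 600, 0, 250, 50, 300, 0, 225, 525, 225, 550,
    275, 475, 275, 425, 175, 100, 150, 0] = true := by decide +kernel

theorem q5pk1_table : ∃ cols, Spec.Table (q5pk1) cols ∧ cols =
    [375, 75, 450, 0, 525, 225, 525, 200, 475, 275, 475, 325, 575, 25, 600, 0, 250, 50, 300, 0, 225, 525, 225, 550,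
    275, 475, 275, 425, 175, 100, 150, 0] :=
  ⟨_, Spec.table_eq _ q5pk1_part0 (by decide), rfl⟩

def q5pk1_cols : List ℕ :=
    [375, 75, 450, 0, 525, 225, 525, 200, 475, 275, 475, 325, 575, 25, 600, 0, 250, 50, 300, 0, 225, 525, 225, 550,
    275, 475, 275, 425, 175, 100, 150, 0]

theorem q5pk1_cols_table : Spec.Table q5pk1 q5pk1_cols := by
  obtain ⟨_, h, rfl⟩ := q5pk1_table
  exact h

theorem q5pk1_plain : Spec.Plain (q5pk1) (q5pk1_cols) :=
  ⟨[(25, 0), (150, 0)],
    [[4, 1, 0, 3], [0, 4, 2, 3], [2, 2, 0, 4], [1, 1, 4, 4]], by decide +kernel⟩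

theorem q5pk1_good : Spec.Good q5pk1 :=
  Or.inl ⟨by decide +kernel, _, q5pk1_cols_table, q5pk1_plain⟩


end CfsgLib.BaseTwo.Data
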