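import Cfsg.Agent.Lib.BaseTwo.Signed

/-!
Certificate data: the plus family over 5 elements, height 2. The tables were computed by a script and are
checked here by evaluation.
-/

set_option autoImplicit false
set_option maxRecDepth 100000
set_option maxHeartbeats 0

namespace CfsgLib.BaseTwo.Data

def q5pk2 : Spec :=
  { o := (opsMod 5), q := 5, cj := id, k := 2,
    mats := [[1, 0, 0, 1], [0, 1, 1, 0], [1, 0, 0, 4], [0, 4, 1, 0]],
    forms := [[1, 0, 0, 1], [0, 1, 1, 0], [1, 0, 0, 4], [0, 4, 1, 0]],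
    sc := [1, 4], tsc := [1],
    x := [1, 0, 3, 0, 0, 1, 2, 2],
    y := [3, 0, 0, 3, 1, 1, 1, 0],
    rx := [3, 0, 1, 0, 0, 3, 1, 4],
    ry := [0, 0, 1, 2, 1, 2, 0, 4] }

theorem q5pk2_part0 : Spec.tableB (q5pk2) 0 128
    [594, 0, 462, 346, 415, 337, 0, 360, 180, 375, 360, 415, 507, 415, 417, 106, 283, 180, 78, 14, 535, 360, 276,
    257, 0, 622, 595, 595, 415, 410, 0, 595, 453, 180, 80, 354, 415, 33, 180, 0, 139, 180, 59, 205, 360, 424,
    0, 360, 212, 415, 292, 221, 61, 180, 320, 158, 471, 360, 526, 328, 132, 180, 372, 615, 186, 0, 318, 434,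
    360, 443, 0, 415, 595, 250, 415, 360, 148, 360, 363, 49, 497, 595, 52, 16, 240, 415, 479, 398, 0, 158, 180,
    180, 360, 365, 0, 180, 302, 595, 70, 401, 360, 122, 595, 0, 516, 595, 96, 570, 415, 356, 0, 415, 568, 360,
    488, 559, 94, 595, 455, 622, 309, 415, 229, 427, 523, 595, 408, 160] = true := by decide +kernel

theorem q5pk2_table : ∃ cols, Spec.Table (q5pk2) cols ∧ cols =
    [594, 0, 462, 346, 415, 337, 0, 360, 180, 375, 360, 415, 507, 415, 417, 106, 283, 180, 78, 14, 535, 360, 276,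
    257, 0, 622, 595, 595, 415, 410, 0, 595, 453, 180, 80, 354, 415, 33, 180, 0, 139, 180, 59, 205, 360, 424,
    0, 360, 212, 415, 292, 221, 61, 180, 320, 158, 471, 360, 526, 328, 132, 180, 372, 615, 186, 0, 318, 434,
    360, 443, 0, 415, 595, 250, 415, 360, 148, 360, 363, 49, 497, 595, 52, 16, 240, 415, 479, 398, 0, 158, 180,
    180, 360, 365, 0, 180, 302, 595, 70, 401, 360, 122, 595, 0, 516, 595, 96, 570, 415, 356, 0, 415, 568, 360,
    488, 559, 94, 595, 455, 622, 309, 415, 229, 427, 523, 595, 408, 160] :=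
  ⟨_, Spec.table_eq _ q5pk2_part0 (by decide), rfl⟩

def q5pk2_cols : List ℕ :=
    [594, 0, 462, 346, 415, 337, 0, 360, 180, 375, 360, 415, 507, 415, 417, 106, 283, 180, 78, 14, 535, 360, 276,
    257, 0, 622, 595, 595, 415, 410, 0, 595, 453, 180, 80, 354, 415, 33, 180, 0, 139, 180, 59, 205, 360, 424,
    0, 360, 212, 415, 292, 221, 61, 180, 320, 158, 471, 360, 526, 328, 132, 180, 372, 615, 186, 0, 318, 434,
    360, 443, 0, 415, 595, 250, 415, 360, 148, 360, 363, 49, 497, 595, 52, 16, 240, 415, 479, 398, 0, 158, 180,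
    180, 360, 365, 0, 180, 302, 595, 70, 401, 360, 122, 595, 0, 516, 595, 96, 570, 415, 356, 0, 415, 568, 360,
    488, 559, 94, 595, 455, 622, 309, 415, 229, 427, 523, 595, 408, 160]

theorem q5pk2_cols_table : Spec.Table q5pk2 q5pk2_cols := by
  obtain ⟨_, h, rfl⟩ := q5pk2_table
  exact h

theorem q5pk2_plain : Spec.Plain (q5pk2) (q5pk2_cols) :=
  ⟨[(14, 0), (33, 0), (49, 0), (52, 0), (59, 0), (61, 0)],
    [[2, 4, 4, 1, 2, 2, 3], [0, 3, 1, 4, 1, 2, 0, 2], [2, 3, 1, 2, 4, 0, 4, 2], [0, 4, 3, 0, 1, 4, 1], [0, 2, 4, 1,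
    1, 3], [1, 4, 3, 3, 2, 0, 3, 1], [3, 1, 2, 3, 3, 4, 0, 4], [3, 3, 3, 2, 4, 0, 1]], by decide +kernel⟩

theorem q5pk2_good : Spec.Good q5pk2 :=
  Or.inl ⟨by decide +kernel, _, q5pk2_cols_table, q5pk2_plain⟩


end CfsgLib.BaseTwo.Data
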