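import Cfsg.Agent.Lib.BaseTwo.Signed

/-!
Certificate data: the complex family over 9 elements, height 1. The tables were computed by a script and are
checked here by evaluation.
-/

set_option autoImplicit false
set_option maxRecDepth 100000
set_option maxHeartbeats 0

namespace CfsgLib.BaseTwo.Data

def q9ck1 : Spec :=
  { o := opsNine, q := 9, cj := cjNine, k := 1,
    mats := [[1, 0, 0, 1], [0, 1, 1, 0], [1, 0, 0, 2], [0, 2, 1, 0]],
    forms := [[1, 0, 0, 1], [0, 1, 1, 0], [1, 0, 0, 2], [0, 2, 1, 0]],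
    sc := [1, 3, 2, 6], tsc := [1, 3],
    x := [1, 0, 2, 7],
    y := [3, 6, 7, 7],
    rx := [1, 0, 2, 4],
    ry := [0, 1, 1, 6] }

theorem q9ck1_part0 : Spec.tableB (q9ck1) 0 64
    [361, 2359, 3942, 3405, 424, 4322, 2701, 1929, 2611, 47, 3404, 4110, 4158, 426, 1125, 2620, 363, 1032, 3816,
    3728, 357, 3990, 903, 2584, 1896, 48, 3732, 4060, 3744, 434, 2655, 1887, 452, 2288, 3213, 4134, 335, 3511,
    2702, 1128, 2522, 37, 4132, 3300, 3429, 336, 1926, 2540, 453, 1761, 3015, 3079, 438, 3333, 1560, 2657,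
    1086, 39, 3084, 3260, 3087, 352, 2583, 1068] = true := by decide +kernel

theorem q9ck1_table : ∃ cols, Spec.Table (q9ck1) cols ∧ cols =
    [361, 2359, 3942, 3405, 424, 4322, 2701, 1929, 2611, 47, 3404, 4110, 4158, 426, 1125, 2620, 363, 1032, 3816,
    3728, 357, 3990, 903, 2584, 1896, 48, 3732, 4060, 3744, 434, 2655, 1887, 452, 2288, 3213, 4134, 335, 3511,
    2702, 1128, 2522, 37, 4132, 3300, 3429, 336, 1926, 2540, 453, 1761, 3015, 3079, 438, 3333, 1560, 2657,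
    1086, 39, 3084, 3260, 3087, 352, 2583, 1068] :=
  ⟨_, Spec.table_eq _ q9ck1_part0 (by decide), rfl⟩

def q9ck1_cols : List ℕ :=
    [361, 2359, 3942, 3405, 424, 4322, 2701, 1929, 2611, 47, 3404, 4110, 4158, 426, 1125, 2620, 363, 1032, 3816,
    3728, 357, 3990, 903, 2584, 1896, 48, 3732, 4060, 3744, 434, 2655, 1887, 452, 2288, 3213, 4134, 335, 3511,
    2702, 1128, 2522, 37, 4132, 3300, 3429, 336, 1926, 2540, 453, 1761, 3015, 3079, 438, 3333, 1560, 2657,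
    1086, 39, 3084, 3260, 3087, 352, 2583, 1068]

theorem q9ck1_cols_table : Spec.Table q9ck1 q9ck1_cols := by
  obtain ⟨_, h, rfl⟩ := q9ck1_table
  exact h

theorem q9ck1_plain : Spec.Plain (q9ck1) (q9ck1_cols) :=
  ⟨[(37, 0), (39, 0), (335, 0), (336, 0), (352, 0), (357, 0)],
    [[2, 1, 2, 1, 2, 2, 1, 2], [1, 0, 0, 0, 2, 2, 1], [0, 0, 0, 1, 1, 0, 1, 2], [0, 0, 2, 0, 2, 2, 0, 2], [2, 1, 1,
    0, 2, 1, 0, 2], [1, 0, 1, 2, 2], [1, 1, 2, 0, 2, 1, 2], [0, 1, 0, 1, 2, 2]], by decide +kernel⟩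

theorem q9ck1_good : Spec.Good q9ck1 :=
  Or.inl ⟨by decide +kernel, _, q9ck1_cols_table, q9ck1_plain⟩


end CfsgLib.BaseTwo.Data
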